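import Groth.Agent.Lib.Helper25.DualS2.StalkLinear
import Groth.Agent.Lib.Helper39.Dual.LocExt

/-!
# The stalk of a module which is a tilde on an affine chart, as an extension of scalars
-/

set_option autoImplicit false
universe u

namespace Groth.Agent.Lib.Helper25.DualS2

open CategoryTheory CategoryTheory.Limits AlgebraicGeometry TopologicalSpace

variable {X : Scheme.{u}} (R : CommRingCat.{u}) (j : Spec R ⟶ X) [IsOpenImmersion j]

/-- the ring iso `O_{X, j y} ≃ O_{Spec R, y}` -/
noncomputable def stalkRingEquiv (y : Spec R) :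
    X.presheaf.stalk (j y) ≃+* (Spec R).presheaf.stalk y :=
  (asIso (j.stalkMap y)).commRingCatIsoToRingEquiv

theorem stalkRingEquiv_apply (y : Spec R) (c : X.presheaf.stalk (j y)) :
    stalkRingEquiv R j y c = (j.stalkMap y).hom c := rfl

/-- the canonical map `R → O_{X, j y}` -/
noncomputable def chartStalkHom (y : Spec R) : R →+* X.presheaf.stalk (j y) :=
  (stalkRingEquiv R j y).symm.toRingHom.comp (StructureSheaf.toStalk R y).hom

theorem stalkMap_chartStalkHom (y : Spec R) (a : R) :
    (j.stalkMap y).hom (chartStalkHom R j y a) = (StructureSheaf.toStalk R y).hom a := by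
  rw [← stalkRingEquiv_apply]
  exact (stalkRingEquiv R j y).apply_symm_apply _

set_option backward.isDefEq.respectTransparency.types false in
theorem isLocalization_chartStalkHom (y : Spec R) :
    @IsLocalization R _ (PrimeSpectrum.asIdeal (R := R) y).primeCompl (X.presheaf.stalk (j y)) _
      (chartStalkHom R j y).toAlgebra := by
  letI : Algebra R (X.presheaf.stalk (j y)) := (chartStalkHom R j y).toAlgebra
  have h0 : IsLocalization.AtPrime ((Spec.structureSheaf R).presheaf.stalk y)
      (PrimeSpectrum.asIdeal (R := R) y) := inferInstance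
  let e : ((Spec.structureSheaf R).presheaf.stalk y) ≃ₐ[R] (X.presheaf.stalk (j y)) :=
    AlgEquiv.ofRingEquiv (f := (stalkRingEquiv R j y).symm) (fun a => rfl)
  exact IsLocalization.isLocalization_of_algEquiv _ e

theorem stalkMapₗ_bijective_of_iso {F G : X.Modules} (E : F ≅ G) (x : X) :
    Function.Bijective (RefHull.stalkMapₗ E.hom x) := by
  have : IsIso ((TopCat.Presheaf.stalkFunctor Ab x).map
      ((Scheme.Modules.toPresheaf X).map E.hom)) := inferInstance
  exact (ConcreteCategory.isIso_iff_bijective _).1 this

set_option backward.isDefEq.respectTransparency.types false in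
theorem nonempty_stalk_equiv (F : X.Modules) (N : ModuleCat.{u} R) (E : F.restrict j ≅ tilde N)
    (y : Spec R) :
    Nonempty (((ModuleCat.extendScalars.{u, u, u} (chartStalkHom R j y)).obj
      (ModuleCat.of R N)) ≃ₗ[X.presheaf.stalk (j y)] F.presheaf.stalk (j y)) := by
  let _ : Module R (F.presheaf.stalk (j y)) := Module.compHom _ (chartStalkHom R j y)
  let g1 := RefHull.stalkMapₗ E.inv y
  have hg1 : Function.Bijective g1 := stalkMapₗ_bijective_of_iso E.symm y
  let g2 := restrictStalkMap j F y
  have hg2 : Function.Bijective g2 := restrictStalkMap_bijective j F y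
  let e0 : (tilde N).presheaf.stalk y ≃ F.presheaf.stalk (j y) :=
    Equiv.ofBijective (fun t => g2 (g1 t)) (hg2.comp hg1)
  let e : (tilde N).presheaf.stalk y ≃ₗ[R] F.presheaf.stalk (j y) :=
    { e0 with
      map_add' := fun a b => by
        change g2 (g1 (a + b)) = g2 (g1 a) + g2 (g1 b)
        rw [map_add, map_add]
      map_smul' := fun a t => by
        change g2 (g1 (a • t)) = chartStalkHom R j y a • g2 (g1 t)
        have h1 : a • t = (show (Spec R).presheaf.stalk y from StructureSheaf.toStalk R y a) • t :=
          rfl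
        rw [h1, map_smul, ← restrictStalk_smul, stalkMap_chartStalkHom] }
  have hl : IsLocalizedModule (PrimeSpectrum.asIdeal (R := R) y).primeCompl
      (e.toLinearMap ∘ₗ (tilde.toStalk N y).hom) :=
    IsLocalizedModule.of_linearEquiv _ _ e
  exact Groth.Agent.Lib.Helper39.Dual.nonempty_extendScalars_equiv_of_isLocalizedModule
    (chartStalkHom R j y) _ (isLocalization_chartStalkHom R j y) N (F.presheaf.stalk (j y))
    (fun a m => rfl) (e.toLinearMap ∘ₗ (tilde.toStalk N y).hom)

end Groth.Agent.Lib.Helper25.DualS2
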