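import Groth.Agent.Lib.Helper39.Dual.OmegaS2
import Groth.Agent.Lib.Helper25.LocDual.CMLocal

/-!
# Depth of the dualizing module `ω_A = H^{-dim A}(ω)` and of its localizations (natural number form)
-/

set_option autoImplicit false
universe u

namespace Groth.Agent.Lib.Helper25.DualS2

open CategoryTheory CategoryTheory.Limits CategoryTheory.Pretriangulated DerivedCategory
open Groth.Agent.Lib.Helper84 Groth.Agent.Lib.Helper25.Bidual Groth.Agent.Lib.Helper25.LocDual
open Groth.Agent.Lib.Helper39.Dual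

attribute [local instance] HasDerivedCategory.standard

variable {A : Type u} [CommRing A] [IsLocalRing A] [IsNoetherianRing A]
  (ω : Dual.D A) (hω : Dual.IsDualizing A ω) (hn : Dual.IsNormalized A ω)

include hω hn in
/-- `depth ω_A ≥ min(2, dim A)` -/
theorem omega_depth_ge (δ : ℕ) (hδ : ringKrullDim A = δ) :
    ((min 2 δ : ℕ) : ℕ∞) ≤ LocCoh.depth A (Dual.HD A ω (-(δ : ℤ))) := by
  haveI := omega_nontrivial ω hω hn δ hδ
  haveI := hω.finite_cohomology (-(δ : ℤ))
  obtain ⟨n, hnd⟩ := ENat.ne_top_iff_exists.mp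
    (Groth.Agent.Lib.Helper67.depth_ne_top (R := A) (Dual.HD A ω (-(δ : ℤ))))
  have hnt := nontrivial_hom_of_depth_eq ω hω hn n (Dual.HD A ω (-(δ : ℤ))) hnd.symm
  have hmin : min 2 δ ≤ n := by
    by_contra hlt
    push Not at hlt
    have h1 : n < 2 := lt_of_lt_of_le hlt (min_le_left _ _)
    have h2 : n < δ := lt_of_lt_of_le hlt (min_le_right _ _)
    exact not_subsingleton _ (subsingleton_hom_omega ω hω hn δ hδ n h1 h2)
  rw [← hnd]
  exact_mod_cast hmin

include hω hn in
/-- localized form: `depth (ω_A)_p ≥ min(2, ht p)` when `(ω_A)_p ≠ 0` -/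
theorem omega_depth_loc_ge (d : ℕ) (hd : ringKrullDim A = d) (p : PrimeSpectrum A)
    (hnt : Nontrivial (LocalizedModule p.asIdeal.primeCompl (Dual.HD A ω (-(d : ℤ))))) :
    ∃ hh : ℕ, Order.height p = (hh : ℕ∞) ∧
      ((min 2 hh : ℕ) : ℕ∞) ≤ LocCoh.depth (Localization.AtPrime p.asIdeal)
        (LocalizedModule p.asIdeal.primeCompl (Dual.HD A ω (-(d : ℤ)))) := by
  obtain ⟨e, he⟩ := ENat.ne_top_iff_exists.mp (coheight_ne_top p)
  obtain ⟨hh, hhh⟩ := ENat.ne_top_iff_exists.mp (height_ne_top p)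
  obtain ⟨hBn, ω', hω', hn', _, hHD⟩ := exists_local_model_HD ω hω hn p e he.symm
  obtain ⟨E⟩ := hHD (-(d : ℤ))
  have hBdim : ringKrullDim (Localization.AtPrime p.asIdeal) = (hh : WithBot ℕ∞) := by
    rw [IsLocalization.AtPrime.ringKrullDim_eq_height p.asIdeal (Localization.AtPrime p.asIdeal),
      PrimeSpectrum.height_eq_orderHeight, ← hhh]
    rfl
  have hle : hh + e ≤ d := by
    have := height_add_coheight_le p d hd
    rw [← hhh, ← he] at this
    exact_mod_cast this
  have hnt' : Nontrivial (Dual.HD (Localization.AtPrime p.asIdeal) ω' (-(d : ℤ) + e)) :=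
    E.symm.toEquiv.nontrivial
  have heq : hh + e = d := by
    by_contra hne
    have hlt : -(d : ℤ) + e < -(hh : ℤ) := by omega
    exact not_subsingleton _ (subsingleton_HD_of_lt ω' hω' hn' hh hBdim _ hlt)
  have hidx : -(d : ℤ) + e = -(hh : ℤ) := by omega
  rw [hidx] at E
  refine ⟨hh, hhh.symm, ?_⟩
  rw [Groth.Agent.Lib.Helper67.depth_congr E]
  exact omega_depth_ge ω' hω' hn' hh hBdim

end Groth.Agent.Lib.Helper25.DualS2
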