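import Groth.Agent.Lib.Helper25.DualS2.TorsionFree
import Groth.Agent.Lib.Helper56.DepthLoc

/-!
# The lowest cohomology module of a dualizing complex over a local ring is `(S_2)` and,
over a domain, torsion free
-/

set_option autoImplicit false
universe u

namespace Groth.Agent.Lib.Helper25.DualS2

open CategoryTheory CategoryTheory.Limits CategoryTheory.Pretriangulated DerivedCategory
open Groth.Agent.Lib.Helper84 Groth.Agent.Lib.Helper25.Bidual Groth.Agent.Lib.Helper25.LocDual
open Groth.Agent.Lib.Helper39.Dual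

attribute [local instance] HasDerivedCategory.standard

theorem hasSk_of_subsingleton {B : Type u} [CommRing B] (M : Type u) [AddCommGroup M] [Module B M]
    [Subsingleton M] (k : ℕ) : LocCoh.HasSk k B M := by
  intro p _
  rw [Module.supportDim_eq_bot_of_subsingleton]
  exact le_trans (min_le_right _ _) bot_le

theorem lowest_S2_torsionFree {B : Type u} [CommRing B] [IsLocalRing B] (ω : Dual.D B)
    (hω : Dual.IsDualizing B ω) (n : ℤ)
    (hlt : ∀ i : ℤ, i < n → Subsingleton (Dual.HD B ω i)) :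
    LocCoh.HasSk 2 B (Dual.HD B ω n) ∧
      (IsDomain B → Module.IsTorsionFree B (Dual.HD B ω n)) := by
  have := hω.isNoetherianRing
  obtain ⟨s, hs1, -⟩ := residue_main (IsLocalRing.maximalIdeal B) ω hω
  have hω' := Groth.Agent.Lib.Helper25.LocDual.isDualizing_shift ω hω s
  have eadd : ∀ i : ℤ, (ω⟦s⟧)⟦i⟧ ≅ ω⟦s + i⟧ := fun i =>
    ((shiftFunctorAdd' (Dual.D B) s i (s + i) rfl).app ω).symm
  have hnorm : Dual.IsNormalized B (ω⟦s⟧) := by
    intro i hi
    exact (subsingleton_hom_congr_right (eadd i)).2 (hs1 (s + i) (by omega))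
  have hdim := ringKrullDim_lt_top_of_dualizing ω hω
  obtain ⟨d, hd⟩ : ∃ d : ℕ, ringKrullDim B = d := by
    have h0 : ringKrullDim B ≠ ⊥ := ringKrullDim_ne_bot
    have h1 : ringKrullDim B ≠ ⊤ := hdim.ne
    obtain ⟨x, hx⟩ := WithBot.ne_bot_iff_exists.1 h0
    have hx' : x ≠ ⊤ := by
      rintro rfl
      exact h1 hx.symm
    obtain ⟨d, hd⟩ := ENat.ne_top_iff_exists.1 hx'
    exact ⟨d, by rw [← hx, ← hd]; rfl⟩
  have eH : ∀ i j : ℤ, s + i = j → (Dual.HD B (ω⟦s⟧) i ≃ₗ[B] Dual.HD B ω j) := fun i j h =>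
    (((homologyFunctor (ModuleCat.{u} B) 0).shiftIso s i j h).app ω).toLinearEquiv
  have hnt := omega_nontrivial (ω⟦s⟧) hω' hnorm d hd
  have hnm : n ≤ s - d := by
    by_contra hlt'
    push Not at hlt'
    have := hlt (s - d) hlt'
    exact not_subsingleton _ ((eH (-(d : ℤ)) (s - d) (by ring)).toEquiv.subsingleton)
  rcases eq_or_lt_of_le hnm with heq | hlt'
  · have E : Dual.HD B (ω⟦s⟧) (-(d : ℤ)) ≃ₗ[B] Dual.HD B ω n := eH _ _ (by omega)
    refine ⟨?_, fun hdom => ?_⟩
    · exact Groth.Agent.Lib.Helper56.hasSk_of_equiv E 2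
        (fun p hp => (omega_local_analysis (ω⟦s⟧) hω' hnorm d hd ⟨p, hp⟩).2)
    · haveI := hdom
      have := omega_torsionFree (ω⟦s⟧) hω' hnorm d hd
      exact Function.Injective.moduleIsTorsionFree (E.symm : Dual.HD B ω n → _)
        E.symm.injective (fun r m => E.symm.map_smul r m)
  · have hsub : Subsingleton (Dual.HD B ω n) := by
      have := subsingleton_HD_of_lt (ω⟦s⟧) hω' hnorm d hd (n - s) (by omega)
      exact (eH (n - s) n (by ring)).symm.toEquiv.subsingleton
    refine ⟨hasSk_of_subsingleton _ 2, fun _ => ?_⟩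
    exact ⟨fun r _ a b _ => Subsingleton.elim a b⟩

end Groth.Agent.Lib.Helper25.DualS2
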