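import Groth.Agent.Lib.Helper25.DualS2.Reflexive
import Groth.Agent.Lib.Helper25.DualS2.Lowest

/-!
# The lowest cohomology module of a dualizing complex over a local ring: normalized model,
reflexivity over a normal domain
-/

set_option autoImplicit false
universe u

namespace Groth.Agent.Lib.Helper25.DualS2

open CategoryTheory CategoryTheory.Limits CategoryTheory.Pretriangulated DerivedCategory
open Groth.Agent.Lib.Helper84 Groth.Agent.Lib.Helper25.Bidual Groth.Agent.Lib.Helper25.LocDual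
open Groth.Agent.Lib.Helper39.Dual

attribute [local instance] HasDerivedCategory.standard

/-- the lowest cohomology module of a dualizing complex over a local ring is zero or the
dualizing module `H^{-dim B}` of a normalized dualizing complex -/
theorem lowest_model {B : Type u} [CommRing B] [IsLocalRing B] (ω : Dual.D B)
    (hω : Dual.IsDualizing B ω) (n : ℤ)
    (hlt : ∀ i : ℤ, i < n → Subsingleton (Dual.HD B ω i)) :
    Subsingleton (Dual.HD B ω n) ∨
      ∃ (_ : IsNoetherianRing B) (ω' : Dual.D B) (d : ℕ), Dual.IsDualizing B ω' ∧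
        Dual.IsNormalized B ω' ∧ ringKrullDim B = d ∧
        Nonempty (Dual.HD B ω' (-(d : ℤ)) ≃ₗ[B] Dual.HD B ω n) := by
  have hnoeth := hω.isNoetherianRing
  obtain ⟨s, hs1, -⟩ := residue_main (IsLocalRing.maximalIdeal B) ω hω
  have hω' := Groth.Agent.Lib.Helper25.LocDual.isDualizing_shift ω hω s
  have eadd : ∀ i : ℤ, (ω⟦s⟧)⟦i⟧ ≅ ω⟦s + i⟧ := fun i =>
    ((shiftFunctorAdd' (Dual.D B) s i (s + i) rfl).app ω).symm
  have hnorm : Dual.IsNormalized B (ω⟦s⟧) := by
    intro i hi
    exact (subsingleton_hom_congr_right (eadd i)).2 (hs1 (s + i) (by omega))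
  have hdim := ringKrullDim_lt_top_of_dualizing ω hω
  obtain ⟨d, hd⟩ : ∃ d : ℕ, ringKrullDim B = d := by
    have h0 : ringKrullDim B ≠ ⊥ := ringKrullDim_ne_bot
    have h1 : ringKrullDim B ≠ ⊤ := hdim.ne
    obtain ⟨x, hx⟩ := WithBot.ne_bot_iff_exists.1 h0
    have hx' : x ≠ ⊤ := by
      rintro rfl
      exact h1 hx.symm
    obtain ⟨d, hd⟩ := ENat.ne_top_iff_exists.1 hx'
    exact ⟨d, by rw [← hx, ← hd]; rfl⟩
  have eH : ∀ i j : ℤ, s + i = j → (Dual.HD B (ω⟦s⟧) i ≃ₗ[B] Dual.HD B ω j) := fun i j h =>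
    (((homologyFunctor (ModuleCat.{u} B) 0).shiftIso s i j h).app ω).toLinearEquiv
  have hnt := omega_nontrivial (ω⟦s⟧) hω' hnorm d hd
  have hnm : n ≤ s - d := by
    by_contra hlt'
    push Not at hlt'
    have := hlt (s - d) hlt'
    exact not_subsingleton _ ((eH (-(d : ℤ)) (s - d) (by ring)).toEquiv.subsingleton)
  rcases eq_or_lt_of_le hnm with heq | hlt'
  · right
    exact ⟨hnoeth, ω⟦s⟧, d, hω', hnorm, hd, ⟨eH _ _ (by omega)⟩⟩
  · left
    have := subsingleton_HD_of_lt (ω⟦s⟧) hω' hnorm d hd (n - s) (by omega)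
    exact (eH (n - s) n (by ring)).symm.toEquiv.subsingleton

theorem lowest_reflexive {B : Type u} [CommRing B] [IsLocalRing B] [IsDomain B]
    [IsIntegrallyClosed B] (ω : Dual.D B) (hω : Dual.IsDualizing B ω) (n : ℤ)
    (hlt : ∀ i : ℤ, i < n → Subsingleton (Dual.HD B ω i)) :
    Module.IsReflexive B (Dual.HD B ω n) := by
  rcases lowest_model ω hω n hlt with hsub | ⟨hnoeth, ω', d, hω', hn', hd, ⟨E⟩⟩
  · exact Groth.Agent.Lib.Helper85.Reflexive.isReflexive_of_subsingleton _ _
  · have := omega_reflexive d B ω' hω' hn' hd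
    exact Module.equiv E

end Groth.Agent.Lib.Helper25.DualS2
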