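import Groth.Agent.Lib.Helper25.DualS2.ChartStalk
import Groth.Agent.Lib.Helper25.DualS2.Lowest
import Groth.Agent.Lib.Helper25.SchCM.ModuleCM
import Groth.Agent.Lib.Helper39.Dual.LocExtHD
import Mathlib.AlgebraicGeometry.FunctionField

/-!
# The dualizing sheaf `H^n(K)` is `(S_2)` and, on an integral scheme, torsion free
-/

set_option autoImplicit false
universe u

namespace Groth.Agent.Lib.Helper25.DualS2

open CategoryTheory CategoryTheory.Limits AlgebraicGeometry DerivedCategory
open Groth.Agent.Lib.Helper25.Bidual Groth.Agent.Lib.Helper25.LocDual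
open Groth.Agent.Lib.Helper39.Dual Groth.Agent.Lib.Helper25.SchCM

attribute [local instance] HasDerivedCategory.standard

variable {X : Scheme.{u}}
  [∀ (U : Scheme.{u}) (j : U ⟶ X) [IsOpenImmersion j],
    PreservesFiniteLimits (Scheme.Modules.restrictFunctor j)]
  [∀ (R : CommRingCat.{u}), PreservesFiniteLimits (tilde.functor R)]

/-- a dualizing complex over the local ring `O_{X,x}` whose cohomology modules are the stalks of
the cohomology sheaves of `K` -/
theorem exists_stalk_model (R : CommRingCat.{u}) (j : Spec R ⟶ X) [IsOpenImmersion j]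
    (K : DCoh.D X) (ωA : Dual.D R) (hωA : Dual.IsDualizing R ωA)
    (e : (DCoh.restrictD j).obj K ≅ (DCoh.tildeD R).obj ωA) (y : Spec R) :
    ∃ ωB : Dual.D (X.presheaf.stalk (j y)), Dual.IsDualizing (X.presheaf.stalk (j y)) ωB ∧
      ∀ i : ℤ, Nonempty (Dual.HD (X.presheaf.stalk (j y)) ωB i ≃ₗ[X.presheaf.stalk (j y)]
        (DCoh.HD K i).presheaf.stalk (j y)) := by
  have := hωA.isNoetherianRing
  have hloc := isLocalization_chartStalkHom R j y
  obtain ⟨I, a, b, hI, hz, ⟨eI⟩⟩ := exists_bounded_injective_model ωA hωA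
  have hz' : ∀ i, (i < a ∨ max a b < i) → IsZero (I.X i) := fun i hi => by
    rcases hi with hi | hi
    · exact hz i (Or.inl hi)
    · exact hz i (Or.inr (lt_of_le_of_lt (le_max_right a b) hi))
  have hωI := isDualizing_of_iso eI.symm hωA
  have hB := isDualizing_ext (chartStalkHom R j y) _ hloc I a (max a b) (le_max_left a b)
    hI hz' hωI
  refine ⟨_, hB, fun i => ?_⟩
  obtain ⟨e2⟩ := nonempty_HD_ext_iso (chartStalkHom R j y) _ hloc ωA I eI i
  obtain ⟨e1⟩ := nonempty_map_homology_iso (Scheme.Modules.restrictFunctor j) K i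
  obtain ⟨e3⟩ := nonempty_tilde_homology_iso R ωA i
  let E2 : (DCoh.HD K i).restrict j ≅
      tilde ((homologyFunctor (ModuleCat.{u} R) i).obj ωA) :=
    e1 ≪≫ (homologyFunctor _ i).mapIso e ≪≫ e3.symm
  obtain ⟨e4⟩ := nonempty_stalk_equiv R j (DCoh.HD K i) _ E2 y
  exact ⟨e2.toLinearEquiv ≪≫ₗ e4⟩

/-- S7873 -/
theorem sch_S2 (K : DCoh.D X) (hK : Dual2.IsDualizingSch X K) (n : ℤ)
    (hlt : ∀ i : ℤ, i < n → IsZero (DCoh.HD K i)) :
    (∀ x : X, LocCoh.HasSk 2 (X.presheaf.stalk x) ((DCoh.HD K n).presheaf.stalk x)) ∧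
      (IsIntegral X → ∀ x : X,
        Module.IsTorsionFree (X.presheaf.stalk x) ((DCoh.HD K n).presheaf.stalk x)) := by
  have key : ∀ x : X, LocCoh.HasSk 2 (X.presheaf.stalk x) ((DCoh.HD K n).presheaf.stalk x) ∧
      (IsDomain (X.presheaf.stalk x) →
        Module.IsTorsionFree (X.presheaf.stalk x) ((DCoh.HD K n).presheaf.stalk x)) := by
    intro x
    obtain ⟨R, j, hj, y, rfl⟩ := exists_chart x
    obtain ⟨ωA, hωA, ⟨e⟩⟩ := hK R j
    obtain ⟨ωB, hωB, hE⟩ := exists_stalk_model (CommRingCat.of R) j K ωA hωA e y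
    have hlt' : ∀ i : ℤ, i < n → Subsingleton (Dual.HD (X.presheaf.stalk (j y)) ωB i) := by
      intro i hi
      obtain ⟨E⟩ := hE i
      have := subsingleton_stalk_of_isZero _ (hlt i hi) (j y)
      exact E.toEquiv.subsingleton
    obtain ⟨h1, h2⟩ := lowest_S2_torsionFree ωB hωB n hlt'
    obtain ⟨E⟩ := hE n
    refine ⟨Groth.Agent.Lib.Helper56.hasSk_of_equiv E 2 h1, fun hd => ?_⟩
    have := h2 hd
    exact Function.Injective.moduleIsTorsionFree
      (E.symm : (DCoh.HD K n).presheaf.stalk (j y) → _) E.symm.injective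
      (fun r m => E.symm.map_smul r m)
  exact ⟨fun x => (key x).1, fun hint x => (key x).2 inferInstance⟩

end Groth.Agent.Lib.Helper25.DualS2
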