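import Groth.Agent.Lib.Helper25.DualS2.TorsionFree
import Groth.Agent.Lib.Helper85.Reflexive
import Mathlib.RingTheory.DiscreteValuationRing.TFAE
import Mathlib.LinearAlgebra.FreeModule.PID

/-!
# The dualizing module of a normal Noetherian local domain is reflexive
-/

set_option autoImplicit false
universe u

namespace Groth.Agent.Lib.Helper25.DualS2

open CategoryTheory CategoryTheory.Limits CategoryTheory.Pretriangulated DerivedCategory
open Groth.Agent.Lib.Helper84 Groth.Agent.Lib.Helper25.Bidual Groth.Agent.Lib.Helper25.LocDual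
open Groth.Agent.Lib.Helper39.Dual

attribute [local instance] HasDerivedCategory.standard

section Model

variable {A : Type u} [CommRing A] [IsLocalRing A] [IsNoetherianRing A]
  (ω : Dual.D A) (hω : Dual.IsDualizing A ω) (hn : Dual.IsNormalized A ω)

include hω hn in
/-- the localization of `ω_A` at a prime of its support is the dualizing module of `A_p` -/
theorem exists_omega_loc_model (d : ℕ) (hd : ringKrullDim A = d) (p : PrimeSpectrum A)
    (hnt : Nontrivial (LocalizedModule p.asIdeal.primeCompl (Dual.HD A ω (-(d : ℤ))))) :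
    ∃ (hh e : ℕ) (_ : IsNoetherianRing (Localization.AtPrime p.asIdeal))
      (ω' : Dual.D (Localization.AtPrime p.asIdeal)),
      Order.height p = (hh : ℕ∞) ∧ Order.coheight p = (e : ℕ∞) ∧ hh + e = d ∧
      ringKrullDim (Localization.AtPrime p.asIdeal) = (hh : WithBot ℕ∞) ∧
      Dual.IsDualizing (Localization.AtPrime p.asIdeal) ω' ∧
      Dual.IsNormalized (Localization.AtPrime p.asIdeal) ω' ∧
      Nonempty (LocalizedModule p.asIdeal.primeCompl (Dual.HD A ω (-(d : ℤ)))
        ≃ₗ[Localization.AtPrime p.asIdeal]
          Dual.HD (Localization.AtPrime p.asIdeal) ω' (-(hh : ℤ))) := by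
  obtain ⟨e, he⟩ := ENat.ne_top_iff_exists.mp (coheight_ne_top p)
  obtain ⟨hh, hhh⟩ := ENat.ne_top_iff_exists.mp (height_ne_top p)
  obtain ⟨hBn, ω', hω', hn', _, hHD⟩ := exists_local_model_HD ω hω hn p e he.symm
  obtain ⟨E⟩ := hHD (-(d : ℤ))
  have hBdim : ringKrullDim (Localization.AtPrime p.asIdeal) = (hh : WithBot ℕ∞) := by
    rw [IsLocalization.AtPrime.ringKrullDim_eq_height p.asIdeal (Localization.AtPrime p.asIdeal),
      PrimeSpectrum.height_eq_orderHeight, ← hhh]
    rfl
  have hle : hh + e ≤ d := by
    have := height_add_coheight_le p d hd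
    rw [← hhh, ← he] at this
    exact_mod_cast this
  have hnt' : Nontrivial (Dual.HD (Localization.AtPrime p.asIdeal) ω' (-(d : ℤ) + e)) :=
    E.symm.toEquiv.nontrivial
  have heq : hh + e = d := by
    by_contra hne
    have hlt : -(d : ℤ) + e < -(hh : ℤ) := by omega
    exact not_subsingleton _ (subsingleton_HD_of_lt ω' hω' hn' hh hBdim _ hlt)
  have hidx : -(d : ℤ) + e = -(hh : ℤ) := by omega
  rw [hidx] at E
  exact ⟨hh, e, hBn, ω', hhh.symm, he.symm, heq, hBdim, hω', hn', ⟨E⟩⟩

end Model

/-- the dualizing module of a normal Noetherian local domain is reflexive -/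
theorem omega_reflexive : ∀ (d : ℕ) (A : Type u) [CommRing A] [IsLocalRing A] [IsNoetherianRing A]
    [IsDomain A] [IsIntegrallyClosed A] (ω : Dual.D A) (_ : Dual.IsDualizing A ω)
    (_ : Dual.IsNormalized A ω) (_ : ringKrullDim A = d),
    Module.IsReflexive A (Dual.HD A ω (-(d : ℤ))) := by
  intro d
  induction d using Nat.strong_induction_on with
  | _ d ih =>
    intro A _ _ _ _ _ ω hω hn hd
    have hfin := hω.finite_cohomology (-(d : ℤ))
    have htf := omega_torsionFree ω hω hn d hd
    by_cases hd1 : d ≤ 1
    · -- `A` is a principal ideal domain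
      have hdim1 : Ring.KrullDimLE 1 A := by
        rw [Ring.krullDimLE_iff, hd]
        exact_mod_cast hd1
      have hmax : ∀ P : Ideal A, P ≠ ⊥ → P.IsPrime → P = IsLocalRing.maximalIdeal A :=
        fun P hP hP' => IsLocalRing.eq_maximalIdeal
          (Ring.krullDimLE_one_iff_of_noZeroDivisors.mp hdim1 P hP hP')
      have h30 : (IsIntegrallyClosed A ∧
          ∀ P : Ideal A, P ≠ ⊥ → P.IsPrime → P = IsLocalRing.maximalIdeal A) →
          IsPrincipalIdealRing A :=
        ((tfae_of_isNoetherianRing_of_isLocalRing_of_isDomain A).out 3 0).mp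
      have hpid : IsPrincipalIdealRing A := h30 ⟨inferInstance, hmax⟩
      have hfree : Module.Free A (Dual.HD A ω (-(d : ℤ))) :=
        Module.free_of_finite_type_torsion_free'
      infer_instance
    · push Not at hd1
      -- depth conditions
      have hm : IsLocalRing.maximalIdeal A ≠ ⊥ := by
        intro hbot
        have hfield : IsField A := IsLocalRing.isField_iff_maximalIdeal_eq.2 hbot
        have h0 := ringKrullDim_eq_zero_of_isField hfield
        rw [hd] at h0
        have : d = 0 := by exact_mod_cast h0
        omega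
      have hA : 1 ≤ LocCoh.idealDepth (IsLocalRing.maximalIdeal A) A := by
        rw [Groth.Agent.Lib.Helper67.one_le_idealDepth_iff]
        right
        obtain ⟨r, hr, hr0⟩ := Submodule.exists_mem_ne_zero_of_ne_bot hm
        exact ⟨r, hr, fun a b hab => mul_left_cancel₀ hr0 hab⟩
      have hG : 2 ≤ LocCoh.idealDepth (IsLocalRing.maximalIdeal A) (Dual.HD A ω (-(d : ℤ))) := by
        have h2 := omega_depth_ge ω hω hn d hd
        rw [min_eq_left (by omega : 2 ≤ d)] at h2
        exact h2
      refine Groth.Agent.Lib.Helper85.Reflexive.isReflexive_of_depth _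
        (IsLocalRing.maximalIdeal A) hA (fun p hp => ?_) hG
      by_cases hsub : Subsingleton
          (LocalizedModule p.asIdeal.primeCompl (Dual.HD A ω (-(d : ℤ))))
      · exact Groth.Agent.Lib.Helper85.Reflexive.isReflexive_of_subsingleton _ _
      · have hnt := not_subsingleton_iff_nontrivial.mp hsub
        obtain ⟨hh, e, hBn, ω', hhh, he, heq, hBdim, hω', hn', ⟨E⟩⟩ :=
          exists_omega_loc_model ω hω hn d hd p hnt
        have he1 : 1 ≤ e := by
          by_contra h0
          have he0 : e = 0 := by omega
          rw [he0] at he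
          have hmax : IsMax p := Order.coheight_eq_zero.1 (by simpa using he)
          apply hp
          have hle : p ≤ IsLocalRing.closedPoint A := IsLocalRing.le_maximalIdeal p.2.ne_top
          exact hmax hle
        have hIC : IsIntegrallyClosed (Localization.AtPrime p.asIdeal) :=
          isIntegrallyClosed_of_isLocalization (Localization.AtPrime p.asIdeal)
            p.asIdeal.primeCompl p.asIdeal.primeCompl_le_nonZeroDivisors
        have := ih hh (by omega) (Localization.AtPrime p.asIdeal) ω' hω' hn' hBdim
        exact Module.equiv E.symm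

end Groth.Agent.Lib.Helper25.DualS2
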