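import Groth.Agent.Lib.Helper25.DualS2.Main
import Groth.Agent.Lib.Helper25.DualS2.LowestModel
import Groth.Prelude.Def_Pi1

/-!
# The dualizing sheaf of a normal Noetherian scheme is reflexive
-/

set_option autoImplicit false
universe u

namespace Groth.Agent.Lib.Helper25.DualS2

open CategoryTheory CategoryTheory.Limits AlgebraicGeometry DerivedCategory
open Groth.Agent.Lib.Helper25.SchCM

attribute [local instance] HasDerivedCategory.standard

variable {X : Scheme.{u}}
  [∀ (U : Scheme.{u}) (j : U ⟶ X) [IsOpenImmersion j],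
    PreservesFiniteLimits (Scheme.Modules.restrictFunctor j)]
  [∀ (R : CommRingCat.{u}), PreservesFiniteLimits (tilde.functor R)]

/-- S7877 -/
theorem sch_reflexive (hX : Pi1.IsNormalScheme X) (K : DCoh.D X)
    (hK : Dual2.IsDualizingSch X K) (n : ℤ)
    (hlt : ∀ i : ℤ, i < n → IsZero (DCoh.HD K i)) :
    ∀ x : X, Module.IsReflexive (X.presheaf.stalk x) ((DCoh.HD K n).presheaf.stalk x) := by
  intro x
  obtain ⟨hdom, hic⟩ := hX x
  obtain ⟨R, j, hj, y, rfl⟩ := exists_chart x
  obtain ⟨ωA, hωA, ⟨e⟩⟩ := hK R j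
  obtain ⟨ωB, hωB, hE⟩ := exists_stalk_model (CommRingCat.of R) j K ωA hωA e y
  have hlt' : ∀ i : ℤ, i < n → Subsingleton (Dual.HD (X.presheaf.stalk (j y)) ωB i) := by
    intro i hi
    obtain ⟨E⟩ := hE i
    have := subsingleton_stalk_of_isZero _ (hlt i hi) (j y)
    exact E.toEquiv.subsingleton
  have := lowest_reflexive ωB hωB n hlt'
  obtain ⟨E⟩ := hE n
  exact Module.equiv E

end Groth.Agent.Lib.Helper25.DualS2
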