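import Groth.Prelude.Def_DualSch
import Groth.Prelude.Def_MeroDiv
import Groth.Prelude.Def_RefHull
import Groth.Agent.Lib.Helper25.SchCM.Chart

/-!
# Linearity of the comparison maps between stalks
-/

set_option autoImplicit false
universe u

namespace Groth.Agent.Lib.Helper25.DualS2

open CategoryTheory CategoryTheory.Limits AlgebraicGeometry TopologicalSpace

/-- the comparison `(M|_U)_y → M_{j y}` -/
noncomputable def restrictStalkMap {X U : Scheme.{u}} (j : U ⟶ X) [IsOpenImmersion j]
    (M : X.Modules) (y : U) :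
    (M.restrict j).presheaf.stalk y →+ M.presheaf.stalk (j y) :=
  ((Scheme.Modules.restrictStalkNatIso j y).hom.app M).hom

theorem restrictStalkMap_germ {X U : Scheme.{u}} (j : U ⟶ X) [IsOpenImmersion j]
    (M : X.Modules) (y : U) (V : U.Opens) (hy : y ∈ V) (z : Γ(M.restrict j, V)) :
    restrictStalkMap j M y ((M.restrict j).presheaf.germ V y hy z) =
      M.presheaf.germ (j ''ᵁ V) (j y) ⟨y, hy, rfl⟩ z :=
  congr($(Scheme.Modules.germ_restrictStalkNatIso_hom_app j y M hy) z)

theorem restrictStalkMap_bijective {X U : Scheme.{u}} (j : U ⟶ X) [IsOpenImmersion j]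
    (M : X.Modules) (y : U) : Function.Bijective (restrictStalkMap j M y) :=
  (ConcreteCategory.isIso_iff_bijective _).1
    (inferInstanceAs (IsIso ((Scheme.Modules.restrictStalkNatIso j y).hom.app M)))

/-- the comparison `(M|_U)_y ≅ M_{j y}` is semilinear with respect to the stalk map of `j` -/
theorem restrictStalk_smul {X U : Scheme.{u}} (j : U ⟶ X) [IsOpenImmersion j] (M : X.Modules)
    (y : U) (c : X.presheaf.stalk (j y)) (t : (M.restrict j).presheaf.stalk y) :
    restrictStalkMap j M y (((j.stalkMap y).hom c) • t) = c • restrictStalkMap j M y t := by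
  obtain ⟨W, hW, r, rfl⟩ := TopCat.Presheaf.exists_germ_eq X.presheaf c
  obtain ⟨V, hV, s, rfl⟩ := TopCat.Presheaf.exists_germ_eq (M.restrict j).presheaf t
  let V' : U.Opens := V ⊓ j ⁻¹ᵁ W
  have hyV' : y ∈ V' := ⟨hV, hW⟩
  have hle : j ''ᵁ V' ≤ W := by
    rintro _ ⟨z, hz, rfl⟩
    exact hz.2
  have hjy : j y ∈ j ''ᵁ V' := ⟨y, hyV', rfl⟩
  rw [← TopCat.Presheaf.germ_res_apply X.presheaf (homOfLE hle) (j y) hjy r]
  rw [← TopCat.Presheaf.germ_res_apply (M.restrict j).presheaf
    (homOfLE (inf_le_left : V' ≤ V)) y hyV' s]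
  generalize X.presheaf.map (homOfLE hle).op r = r'
  generalize (M.restrict j).presheaf.map (homOfLE (inf_le_left : V' ≤ V)).op s = s'
  have h1 : (j.stalkMap y).hom (X.presheaf.germ (j ''ᵁ V') (j y) hjy r') =
      U.presheaf.germ V' y hyV' ((j.appIso V').hom r') := by
    rw [Scheme.Hom.germ_stalkMap_apply, Scheme.Hom.appIso_hom]
    rw [CommRingCat.comp_apply, TopCat.Presheaf.germ_res_apply]
  rw [h1, ← Mero.germ_smul, restrictStalkMap_germ, restrictStalkMap_germ, ← Mero.germ_smul]
  congr 1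
  change ((j.appIso V').inv ((j.appIso V').hom r')) • (show Γ(M, j ''ᵁ V') from s') =
    r' • (show Γ(M, j ''ᵁ V') from s')
  rw [Iso.hom_inv_id_apply]

end Groth.Agent.Lib.Helper25.DualS2
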