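import Groth.Agent.Lib.Helper25.DualS2.Depth

/-!
# The dualizing module of a Noetherian local domain is torsion free
-/

set_option autoImplicit false
universe u

namespace Groth.Agent.Lib.Helper25.DualS2

open CategoryTheory CategoryTheory.Limits CategoryTheory.Pretriangulated DerivedCategory
open Groth.Agent.Lib.Helper84 Groth.Agent.Lib.Helper25.Bidual Groth.Agent.Lib.Helper25.LocDual
open Groth.Agent.Lib.Helper39.Dual

attribute [local instance] HasDerivedCategory.standard

variable {A : Type u} [CommRing A] [IsLocalRing A] [IsNoetherianRing A]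
  (ω : Dual.D A) (hω : Dual.IsDualizing A ω) (hn : Dual.IsNormalized A ω)

include hω hn in
theorem omega_torsionFree [IsDomain A] (d : ℕ) (hd : ringKrullDim A = d) :
    Module.IsTorsionFree A (Dual.HD A ω (-(d : ℤ))) := by
  haveI := hω.finite_cohomology (-(d : ℤ))
  constructor
  intro r hr
  have hr0 : r ≠ 0 := hr.ne_zero
  have hdepth : 1 ≤ LocCoh.idealDepth (Ideal.span {r}) (Dual.HD A ω (-(d : ℤ))) := by
    rw [Groth.Agent.Lib.Helper67.idealDepth_eq_iInf_depth_localization]
    refine le_iInf₂ fun p hp => ?_
    by_cases hsub : Subsingleton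
        (LocalizedModule p.asIdeal.primeCompl (Dual.HD A ω (-(d : ℤ))))
    · unfold LocCoh.depth LocCoh.idealDepth
      rw [if_pos (Subsingleton.elim _ _)]
      exact le_top
    · have hnt := not_subsingleton_iff_nontrivial.mp hsub
      obtain ⟨hh, hhh, hge⟩ := omega_depth_loc_ge ω hω hn d hd p hnt
      have hpos : 1 ≤ hh := by
        by_contra hlt
        have h0 : hh = 0 := by omega
        rw [h0] at hhh
        have hmin : IsMin p := Order.height_eq_zero.1 (by simpa using hhh)
        have hbot : p ≤ (⟨⊥, Ideal.isPrime_bot⟩ : PrimeSpectrum A) :=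
          hmin (show (⟨⊥, Ideal.isPrime_bot⟩ : PrimeSpectrum A) ≤ p from bot_le)
        have hrp : r ∈ p.asIdeal := hp (Ideal.subset_span (Set.mem_singleton r))
        exact hr0 (by simpa using hbot hrp)
      refine le_trans ?_ hge
      have : 1 ≤ min 2 hh := le_min (by norm_num) hpos
      exact_mod_cast this
  rcases (Groth.Agent.Lib.Helper67.one_le_idealDepth_iff _ _).1 hdepth with h | ⟨x, hx, hreg⟩
  · by_cases hu : IsUnit r
    · exact hu.isSMulRegular _
    · have hle : Ideal.span {r} ≤ IsLocalRing.maximalIdeal A := by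
        rw [Ideal.span_singleton_le_iff_mem]
        exact (IsLocalRing.mem_maximalIdeal r).2 hu
      have hbot := Submodule.eq_bot_of_le_smul_of_le_jacobson_bot (Ideal.span {r})
        (⊤ : Submodule A (Dual.HD A ω (-(d : ℤ)))) Module.Finite.fg_top h.ge
        (by rw [IsLocalRing.jacobson_eq_maximalIdeal ⊥ bot_ne_top]; exact hle)
      have hsub : Subsingleton (Dual.HD A ω (-(d : ℤ))) :=
        (Submodule.subsingleton_iff A).1 (subsingleton_of_bot_eq_top hbot.symm)
      exact fun a b _ => Subsingleton.elim a b
  · obtain ⟨c, rfl⟩ := Ideal.mem_span_singleton'.1 hx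
    exact hreg.of_mul

end Groth.Agent.Lib.Helper25.DualS2
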